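import Groth.Agent.SerreCorr.Hom
import Groth.Agent.PnHodgeCI.Wedge
import Groth.Agent.PicAux.Powers
import Groth.Agent.LocFree.Rank
import Mathlib.RingTheory.Spectrum.Prime.FreeLocus
import Mathlib.AlgebraicGeometry.Morphisms.QuasiCompact

/-!
# The determinant of the bundle of a codimension two subscheme
-/

set_option autoImplicit false
set_option linter.style.haveILetI false
set_option backward.isDefEq.respectTransparency.types false

universe u

open CategoryTheory CategoryTheory.Limits AlgebraicGeometry TopologicalSpace TensorProduct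

namespace Groth.SerreCorr

open Groth.KTheory.ExtFilt Groth.PicAux Groth.LocFree
open Groth.QCohMod (appₗ)
open Groth.Duality.StalkHom (pre)
open Groth.Duality.FundLocal (Good exists_good)

variable {P Y : Scheme.{u}} (ι : Y ⟶ P) [IsClosedImmersion ι]

/-- On opens missing the subscheme the ideal is the whole ring. -/
theorem ideal_eq_top {U : P.Opens} (hU : IsAffineOpen U) (h : ι ⁻¹ᵁ U = ⊥) :
    ι.ker.ideal ⟨U, hU⟩ = ⊤ := by
  refine (Scheme.Hom.ker_apply ι ⟨U, hU⟩).trans (eq_top_iff.2 fun x _ => ?_)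
  haveI := Groth.Duality.FundLocal.subsingleton_sections (Coh.structureModule Y) h
  rw [RingHom.mem_ker]
  exact @Subsingleton.elim Γ(Coh.structureModule Y, ι ⁻¹ᵁ U) _ (ι.app U x) 0

theorem preimage_basicOpen_eq_bot {U : P.Opens} (hU : IsAffineOpen U) {f : Γ(P, U)}
    (hf : f ∈ ι.ker.ideal ⟨U, hU⟩) : ι ⁻¹ᵁ P.basicOpen f = ⊥ := by
  rw [Scheme.preimage_basicOpen, show ι.app U f = 0 from
    RingHom.mem_ker.1 ((Scheme.Hom.ker_apply ι ⟨U, hU⟩).le hf), Scheme.basicOpen_zero]

/-- Away from the subscheme the twisted inclusion of the ideal is bijective on sections. -/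
theorem bijective_idealModι_twist {M : P.Modules} (hM : PicF.IsInvertible M) {U : P.Opens}
    (hU : IsAffineOpen U) (h : ι ⁻¹ᵁ U = ⊥) :
    Function.Bijective (((DCoh.tensorRightMod M).map (ClSub.idealModι ι.ker)).app U) := by
  haveI := KTheory.LocFree.isQCoh
    (Groth.LocFree.isFinLocFree_of_rank (Groth.LocFree.isInvertible_iff_ofRank_one.1 hM))
  haveI : (Coh.structureModule P).IsQuasicoherent := Groth.QCohMod.isQCoh_unit P
  have hb : Function.Bijective (appₗ (ClSub.idealModι ι.ker) U) := by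
    refine ⟨OmegaSh.idealModι_app_injective U ι.ker, fun x => ?_⟩
    obtain ⟨m, hm⟩ := OmegaSheaf.exists_idealSect ι.ker ⟨U, hU⟩
      (x := structEquiv U x) (by rw [ideal_eq_top ι hU h]; trivial)
    exact ⟨m, (structEquiv U).injective hm⟩
  let e := LinearEquiv.ofBijective _ hb
  let L : Γ(CohB1.tensorMod (ClSub.idealMod ι.ker) M, U) ≃ₗ[Γ(P, U)]
      Γ(CohB1.tensorMod (Coh.structureModule P) M, U) :=
    ((tensorSecEquiv hU).symm.trans (TensorProduct.congr e (LinearEquiv.refl _ _))).trans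
      (tensorSecEquiv hU)
  have hL : ∀ x, appₗ ((DCoh.tensorRightMod M).map (ClSub.idealModι ι.ker)) U x = L x := by
    intro x
    obtain ⟨z, rfl⟩ := (tensorSecEquiv (M := ClSub.idealMod ι.ker) (N := M) hU).surjective x
    simp only [L, LinearEquiv.trans_apply, LinearEquiv.symm_apply_apply]
    refine LinearMap.congr_fun (TensorProduct.ext' fun a b => ?_ :
      (appₗ ((DCoh.tensorRightMod M).map (ClSub.idealModι ι.ker)) U) ∘ₗ
        (tensorSecEquiv (M := ClSub.idealMod ι.ker) (N := M) hU).toLinearMap =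
      (tensorSecEquiv (M := Coh.structureModule P) (N := M) hU).toLinearMap ∘ₗ
        (TensorProduct.congr e (LinearEquiv.refl _ _)).toLinearMap) z
    exact tensorRightMod_map_tmulSec M (ClSub.idealModι ι.ker) U a b
  have : (((DCoh.tensorRightMod M).map (ClSub.idealModι ι.ker)).app U : _ → _) = L := funext hL
  rw [this]
  exact L.bijective

/-- A morphism of line bundles that is bijective away from a codimension two subscheme is an isomorphism. -/
theorem isIso_of_bijective_compl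
    (hι : RegImm.IsRegularImmersionOfCodim RegImm.Kind.regular 2 ι) {A B : P.Modules}
    (hA : FlatMod.IsFinLocFree A) (hB : FlatMod.IsFinLocFree B) (t : A ⟶ B)
    (h : ∀ U : P.Opens, IsAffineOpen U → ι ⁻¹ᵁ U = ⊥ → Function.Bijective (t.app U)) : IsIso t := by
  haveI := KTheory.LocFree.isQCoh hA
  haveI := KTheory.LocFree.isQCoh hB
  refine Groth.LocFree.isIso_of_small_affine t fun x W hx => ?_
  obtain ⟨U, hU, hxU, hUW⟩ := exists_good ι hι x W hx
  refine ⟨U, hU.1, hxU, hUW, ?_⟩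
  haveI := Groth.LocFree.projective_sections hA hU.1
  haveI := Groth.LocFree.projective_sections hB hU.1
  rcases idealPair_of_good ι hU with htop | ⟨f, g, hfg, hI⟩
  · refine h U hU.1 (eq_bot_iff.2 fun z hz => ?_)
    have h1 : (1 : Γ(P, U)) ∈ ι.ker.ideal ⟨U, hU.1⟩ := by rw [htop]; trivial
    have h2 := preimage_basicOpen_eq_bot ι hU.1 h1
    rw [Scheme.basicOpen_one] at h2
    exact h2.le hz
  have hsurj : ∀ f₀ : Γ(P, U), f₀ ∈ ι.ker.ideal ⟨U, hU.1⟩ → ∀ m : Γ(B, U),
      ∃ (N : ℕ) (a : Γ(A, U)), f₀ ^ N • m = t.app U a := fun f₀ hf₀ m => by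
    obtain ⟨a', ha'⟩ := (h _ (hU.1.basicOpen f₀) (preimage_basicOpen_eq_bot ι hU.1 hf₀)).2
      (res B (P.basicOpen_le f₀) m)
    obtain ⟨N, a, ha⟩ := Groth.QCohMod.exists_pow_smul_eq_res A hU.1 f₀ a'
    have h0 : res B (P.basicOpen_le f₀) (t.app U a - f₀ ^ N • m) = 0 := by
      rw [show ∀ (u v : Γ(B, U)), res B (P.basicOpen_le f₀) (u - v) =
        res B (P.basicOpen_le f₀) u - res B (P.basicOpen_le f₀) v from fun u v => map_sub _ u v,
        res_smul, ← app_res, sub_eq_zero]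
      refine (congrArg _ ha).trans ?_
      rw [Scheme.Modules.Hom.app_smul, ha', map_pow]
      rfl
    obtain ⟨N', hN'⟩ := Groth.QCohMod.exists_pow_smul_eq_zero B hU.1 f₀ _ h0
    refine ⟨N' + N, f₀ ^ N' • a, ?_⟩
    rw [smul_sub, sub_eq_zero] at hN'
    rw [Scheme.Modules.Hom.app_smul, hN', pow_add, mul_smul]
  have hfI : f ∈ ι.ker.ideal ⟨U, hU.1⟩ := by rw [hI]; exact Ideal.subset_span (Set.mem_insert _ _)
  have hgI : g ∈ ι.ker.ideal ⟨U, hU.1⟩ := by
    rw [hI]; exact Ideal.subset_span (Set.mem_insert_of_mem _ rfl)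
  refine hfg.bijective_of_pow' (appₗ t U) (fun a ha => ?_) (hsurj f hfI) (hsurj g hgI)
  have h0 : res A (P.basicOpen_le f) a = 0 :=
    (h _ (hU.1.basicOpen f) (preimage_basicOpen_eq_bot ι hU.1 hfI)).1
      (((app_res t (P.basicOpen_le f) a).trans (congrArg _ ha)).trans
        ((res_zero (P.basicOpen_le f)).trans (map_zero _).symm))
  exact Groth.QCohMod.exists_pow_smul_eq_zero A hU.1 f a h0

section Wedge

variable {S : ShortComplex P.Modules} (hS : S.ShortExact)

include hS in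
/-- `X₁ ⊗ X₃ → ⋀²X₂` for a short exact sequence with invertible first term. -/
theorem exists_wedge (h₁ : FlatMod.IsFinLocFreeOfRank 1 S.X₁) [S.X₁.IsQuasicoherent]
    [S.X₂.IsQuasicoherent] [S.X₃.IsQuasicoherent] :
    ∃ ψ : CohB1.tensorMod (extPow 1 S.X₁) (extPow 1 S.X₃) ⟶ extPow 2 S.X₂,
      ∀ (U : P.Opens), IsAffineOpen U → Module.Projective Γ(P, U) Γ(S.X₃, U) →
        Subsingleton (ESec 2 S.X₃ U) → Function.Bijective (ψ.app U) := by
  haveI := isQCoh_extPow 1 S.X₁
  haveI := isQCoh_extPow 1 S.X₂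
  haveI := isQCoh_extPow 1 S.X₃
  haveI := isQCoh_extPow 2 S.X₂
  haveI := Groth.QCohMod.isQCoh_tensorMod (M := extPow 1 S.X₁) (N := extPow 1 S.X₂)
  haveI := Groth.QCohMod.isQCoh_tensorMod (M := extPow 1 S.X₁) (N := extPow 1 S.X₃)
  have h : 1 + 1 = 1 + 1 := rfl
  obtain ⟨φ, hφ⟩ := exists_phi S.f h
  obtain ⟨π, hπ⟩ := exists_piHom (A := S.X₁) S.g 1 1
  haveI : Epi π := Groth.QCohMod.epi_of_affine_surjective π fun U hU y => by
    obtain ⟨-, -, hs⟩ := sections_exact hS hU
    obtain ⟨z, rfl⟩ := (tau 1 1 S.X₁ S.X₃ hU).surjective y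
    obtain ⟨w, rfl⟩ := LinearMap.lTensor_surjective (ESec 1 S.X₁ U)
      (exteriorPower.map_surjective (n := 1) hs) z
    exact ⟨_, hπ U hU w⟩
  have hke : kernel.ι π ≫ φ = 0 := hom_ext_affine fun U hU x => by
    obtain ⟨hi, he, hs⟩ := sections_exact hS hU
    haveI := Groth.PnHodgeCI.subsingleton_esec_two h₁ hU
    obtain ⟨z, hz⟩ := (tau 1 1 S.X₁ S.X₂ hU).surjective ((kernel.ι π).app U x)
    have h0 : π.app U ((kernel.ι π).app U x) = 0 :=
      congr($(congrArg (fun χ : kernel π ⟶ _ => χ.app U) (kernel.condition π)) x)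
    rw [← hz, hπ U hU, LinearEquiv.map_eq_zero_iff] at h0
    change φ.app U ((kernel.ι π).app U x) = 0
    rw [← hz, hφ U hU, mu_eq_zero_of_pi he hs h h0, map_zero]
  refine ⟨Abelian.epiDesc π φ hke, fun U hU hP h2 => ?_⟩
  have hψ : ∀ z, (Abelian.epiDesc π φ hke).app U (tau 1 1 S.X₁ S.X₃ hU (pi (appₗ S.g U) z)) =
      extEquiv 2 S.X₂ hU (mu (appₗ S.f U) h z) := fun z => by
    rw [← hπ U hU, ← hφ U hU]
    exact congr($(congrArg (fun χ : CohB1.tensorMod (extPow 1 S.X₁) (extPow 1 S.X₂) ⟶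
      extPow 2 S.X₂ => χ.app U) (Abelian.comp_epiDesc π φ hke)) _)
  obtain ⟨hi, he, hs⟩ := sections_exact hS hU
  haveI := hP
  haveI := Groth.PnHodgeCI.subsingleton_esec_two h₁ hU
  have hpi : Function.Surjective (pi (p := 1) (q := 1) (appₗ S.g U)) :=
    LinearMap.lTensor_surjective (ESec 1 S.X₁ U) (exteriorPower.map_surjective (n := 1) hs)
  refine ⟨(injective_iff_map_eq_zero ((Abelian.epiDesc π φ hke).app U).hom).2 fun a ha => ?_, fun y => ?_⟩
  · obtain ⟨z, rfl⟩ := (tau 1 1 S.X₁ S.X₃ hU).surjective a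
    obtain ⟨z, rfl⟩ := hpi z
    have h0 : (Abelian.epiDesc π φ hke).app U (tau 1 1 S.X₁ S.X₃ hU (pi (appₗ S.g U) z)) = 0 := ha
    rw [hψ, LinearEquiv.map_eq_zero_iff] at h0
    rw [(Groth.PnHodgeCI.mu_eq_zero_iff hi he hs h z).1 h0, map_zero]
  · obtain ⟨y, rfl⟩ := (extEquiv 2 S.X₂ hU).surjective y
    obtain ⟨z, hz⟩ := Groth.PnHodgeCI.exists_mu_eq (q := 1) hi he hs h (y := y) (Subsingleton.elim _ _)
    exact ⟨tau 1 1 S.X₁ S.X₃ hU (pi (appₗ S.g U) z), (hψ z).trans (by rw [hz])⟩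

end Wedge

/-- The rank and determinant of an extension of a twisted ideal by `O`. -/
theorem rank_and_det (hι : RegImm.IsRegularImmersionOfCodim RegImm.Kind.regular 2 ι)
    {M : P.Modules} (hM : PicF.IsInvertible M) (S : ShortComplex P.Modules) (hS : S.ShortExact)
    (e₁ : S.X₁ ≅ Coh.structureModule P) (h₂ : FlatMod.IsFinLocFree S.X₂)
    (e₃ : S.X₃ ≅ CohB1.tensorMod (ClSub.idealMod ι.ker) M) :
    FlatMod.IsFinLocFreeOfRank 2 S.X₂ ∧ Nonempty (extPow 2 S.X₂ ≅ M) := by
  haveI hqO : (Coh.structureModule P).IsQuasicoherent := Groth.QCohMod.isQCoh_unit P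
  have hM1 := Groth.LocFree.isInvertible_iff_ofRank_one.1 hM
  haveI hqM : M.IsQuasicoherent := KTheory.LocFree.isQCoh (isFinLocFree_of_rank hM1)
  have hO1 : FlatMod.IsFinLocFreeOfRank 1 (Coh.structureModule P) :=
    Groth.LocFree.isInvertible_iff_ofRank_one.1 ((Groth.PicAux.isInvertible_iff_exists_gen _).2
      fun _ => ⟨⊤, _, trivial, Groth.PicAux.gen_oneSec ⊤⟩)
  have h₁ := Groth.LocFree.isFinLocFreeOfRank_of_iso e₁.symm hO1
  haveI hq1 : S.X₁.IsQuasicoherent := KTheory.LocFree.isQCoh (isFinLocFree_of_rank h₁)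
  haveI hq2 : S.X₂.IsQuasicoherent := KTheory.LocFree.isQCoh h₂
  haveI hqJ : (CohB1.tensorMod (ClSub.idealMod ι.ker) M).IsQuasicoherent :=
    Groth.QCohMod.isQCoh_tensorMod (M := ClSub.idealMod ι.ker) (N := M)
  haveI hq3 : S.X₃.IsQuasicoherent := (Groth.QCohMod.isQCoh_iff_of_iso e₃).2 hqJ
  have hT1 : FlatMod.IsFinLocFreeOfRank 1 (CohB1.tensorMod (Coh.structureModule P) M) := by
    simpa using Groth.LocFree.isFinLocFreeOfRank_tensorMod hO1 hM1
  let j : S.X₃ ⟶ CohB1.tensorMod (Coh.structureModule P) M :=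
    e₃.hom ≫ (DCoh.tensorRightMod M).map (ClSub.idealModι ι.ker)
  have hj : ∀ U : P.Opens, IsAffineOpen U → ι ⁻¹ᵁ U = ⊥ → Function.Bijective (j.app U) :=
    fun U hU h => (bijective_idealModι_twist ι hM hU h).comp
      (ConcreteCategory.bijective_of_isIso ((Scheme.Modules.toPresheaf P).map e₃.hom |>.app (.op U)))
  -- facts on the complement
  have hproj : ∀ U : P.Opens, IsAffineOpen U → ι ⁻¹ᵁ U = ⊥ →
      Module.Projective Γ(P, U) Γ(S.X₃, U) ∧ Subsingleton (ESec 2 S.X₃ U) := fun U hU h => by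
    haveI := Groth.LocFree.projective_sections (isFinLocFree_of_rank hT1) hU
    haveI := Groth.PnHodgeCI.subsingleton_esec_two hT1 hU
    let e := LinearEquiv.ofBijective (appₗ j U) (hj U hU h)
    refine ⟨Module.Projective.of_equiv e.symm, Function.Injective.subsingleton
      (f := exteriorPower.map 2 e.toLinearMap) ?_⟩
    refine Function.LeftInverse.injective (g := exteriorPower.map 2 e.symm.toLinearMap) fun v => ?_
    rw [← LinearMap.comp_apply, ← exteriorPower.map_comp, LinearEquiv.symm_comp, exteriorPower.map_id,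
      LinearMap.id_apply]
  have hrank : FlatMod.IsFinLocFreeOfRank 2 S.X₂ := by
    refine Groth.LocFree.isFinLocFreeOfRank_iff_finrank.2 ⟨h₂, fun x => ?_⟩
    have hoff : ∀ (U : P.Opens), IsAffineOpen U → ι ⁻¹ᵁ U = ⊥ → ∀ z ∈ U,
        Module.finrank (P.presheaf.stalk z) (S.X₂.presheaf.stalk z) = 2 := fun U hU h z hz => by
      obtain ⟨hi, he, hs⟩ := sections_exact hS hU
      haveI := (hproj U hU h).1
      obtain ⟨r, s, hr, hs', hfr⟩ := exists_splitting hi he hs
      let Φ : Γ(S.X₂, U) ≃ₗ[Γ(P, U)] Γ(S.X₁, U) × Γ(S.X₃, U) :=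
        LinearEquiv.ofLinearMap (LinearMap.prod r (appₗ S.g U)) ((appₗ S.f U).coprod s)
          (LinearMap.ext fun v => by
            obtain ⟨a, b⟩ := v
            simp only [LinearMap.comp_apply, LinearMap.coprod_apply, LinearMap.prod_apply,
              Function.comp_apply, Pi.prod, LinearMap.id_apply, map_add]
            have h1 : r (appₗ S.f U a) = a := LinearMap.congr_fun hr a
            have h2 : appₗ S.g U (s b) = b := LinearMap.congr_fun hs' b
            have h3 : appₗ S.g U (appₗ S.f U a) = 0 := he.apply_apply_eq_zero a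
            have h4 : r (s b) = 0 := hi (by rw [hfr, h2, sub_self, map_zero])
            exact Prod.ext (show r (appₗ S.f U a) + r (s b) = a by rw [h1, h4, add_zero])
              (show appₗ S.g U (appₗ S.f U a) + appₗ S.g U (s b) = b by rw [h2, h3, zero_add]))
          (LinearMap.ext fun v => by
            show appₗ S.f U (r v) + s (appₗ S.g U v) = v
            rw [hfr, sub_add_cancel])
      haveI := Groth.LocFree.projective_sections (isFinLocFree_of_rank h₁) hU
      haveI := (Groth.LocFree.finite_projective_sections (isFinLocFree_of_rank h₁) hU).1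
      haveI := Groth.LocFree.projective_sections (isFinLocFree_of_rank hT1) hU
      haveI := (Groth.LocFree.finite_projective_sections (isFinLocFree_of_rank hT1) hU).1
      let e := LinearEquiv.ofBijective (appₗ j U) (hj U hU h)
      haveI : Module.Finite Γ(P, U) Γ(S.X₃, U) := Module.Finite.equiv e.symm
      rw [← rankAtStalk_sections h₂ hU hz,
        Module.rankAtStalk_eq_of_equiv (Φ.trans (LinearEquiv.prodCongr (LinearEquiv.refl _ _) e)),
        Module.rankAtStalk_prod, Pi.add_apply, rankAtStalk_sections_ofRank h₁ hU,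
        rankAtStalk_sections_ofRank hT1 hU]
    obtain ⟨W, m, s, hxW, hs⟩ := Groth.PicAux.exists_basis_of_isFinLocFree h₂ x
    rw [finrank_stalk_of_basis hs hxW]
    obtain ⟨U, hU, hxU, hUW⟩ := exists_good ι hι x W hxW
    rcases idealPair_of_good ι hU with htop | ⟨f, g, hfg, hI⟩
    · have h1 : (1 : Γ(P, U)) ∈ ι.ker.ideal ⟨U, hU.1⟩ := by rw [htop]; trivial
      have h2 := preimage_basicOpen_eq_bot ι hU.1 h1
      rw [Scheme.basicOpen_one] at h2
      rw [← hoff U hU.1 h2 x hxU, finrank_stalk_of_basis hs hxW]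
    · have hfI : f ∈ ι.ker.ideal ⟨U, hU.1⟩ := by rw [hI]; exact Ideal.subset_span (Set.mem_insert _ _)
      haveI : Nonempty U := ⟨⟨x, hxU⟩⟩
      have hne : P.basicOpen f ≠ ⊥ := fun hb => by
        obtain ⟨N, hN⟩ := (Scheme.isNilpotent_iff_basicOpen_eq_bot_of_isCompact hU.1.isCompact f).2 hb
        have h10 : (1 : Γ(P, U)) = 0 := (hfg.left.pow N) (by simp [hN])
        exact one_ne_zero h10
      obtain ⟨z, hz⟩ : ∃ z, z ∈ P.basicOpen f := by
        by_contra hcon
        exact hne (eq_bot_iff.2 fun z hz => (hcon ⟨z, hz⟩).elim)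
      rw [← hoff _ (hU.1.basicOpen f) (preimage_basicOpen_eq_bot ι hU.1 hfI) z hz,
        finrank_stalk_of_basis hs (hUW (P.basicOpen_le f hz))]
  refine ⟨hrank, ?_⟩
  obtain ⟨ψ, hψ⟩ := exists_wedge hS h₁
  obtain ⟨a1⟩ := KTheory.LambdaVb.nonempty_extPow_one S.X₁
  obtain ⟨a3⟩ := KTheory.LambdaVb.nonempty_extPow_one S.X₃
  obtain ⟨lu, -⟩ := exists_leftUnitor S.X₃
  let c : CohB1.tensorMod (ClSub.idealMod ι.ker) M ≅
      CohB1.tensorMod (extPow 1 S.X₁) (extPow 1 S.X₃) :=
    e₃.symm ≪≫ lu.symm ≪≫ PicGrp.tensorModIso (e₁.symm ≪≫ a1.symm) a3.symm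
  let β := c.hom ≫ ψ
  haveI := isEquivalence_tensorRightMod_of_isInvertible hM
  let ε := (DCoh.tensorRightMod M).objObjPreimageIso (extPow 2 S.X₂)
  let α : ClSub.idealMod ι.ker ⟶ (DCoh.tensorRightMod M).objPreimage (extPow 2 S.X₂) :=
    (DCoh.tensorRightMod M).preimage (β ≫ ε.inv)
  have hD : FlatMod.IsFinLocFree ((DCoh.tensorRightMod M).objPreimage (extPow 2 S.X₂)) := by
    obtain ⟨M', -, hM'⟩ := exists_isInverseOf hM
    refine KTheory.LocFree.isFinLocFree_of_iso ((twistEquiv hM').unitIso.app _).symm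
      (Groth.LocFree.isFinLocFree_tensorMod (KTheory.LocFree.isFinLocFree_of_iso ε.symm
        (isFinLocFree_extPow h₂ 2)) (isFinLocFree_of_rank (isInvertible_iff_ofRank_one.1
          (isInvertible_of_isInverseOf hM hM'))))
  haveI := isIso_pre_idealModι ι hι hD
  let g := (inv (pre ((DCoh.tensorRightMod M).objPreimage (extPow 2 S.X₂))
    (ClSub.idealModι ι.ker))).app ⊤ (RefHull.ofHom α ⊤)
  let s : Coh.structureModule P ⟶ (DCoh.tensorRightMod M).objPreimage (extPow 2 S.X₂) :=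
    Duality.StalkHom.toMor g
  have hs : ClSub.idealModι ι.ker ≫ s = α := by
    refine Duality.StalkHom.hom_ext_stalk fun x => ?_
    have h1 : (pre _ (ClSub.idealModι ι.ker)).app ⊤ g = RefHull.ofHom α ⊤ :=
      congr($(congrArg (fun φ : RefHull.homSh (ClSub.idealMod ι.ker)
        ((DCoh.tensorRightMod M).objPreimage (extPow 2 S.X₂)) ⟶ _ => φ.app ⊤)
        (IsIso.inv_hom_id (pre ((DCoh.tensorRightMod M).objPreimage (extPow 2 S.X₂))
          (ClSub.idealModι ι.ker)))) (RefHull.ofHom α ⊤))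
    have h2 := congrArg (fun q : Γ(RefHull.homSh _ _, ⊤) => q.1 ⟨x, trivial⟩) h1
    simp only [RefHull.ofHom_apply] at h2
    refine LinearMap.ext fun v => ?_
    rw [← h2, Duality.StalkHom.pre_val, Duality.StalkHom.stalkMapₗ_comp_apply,
      Duality.StalkHom.stalkMapₗ_toMor]
    rfl
  let t := (DCoh.tensorRightMod M).map s ≫ ε.hom
  have ht : (DCoh.tensorRightMod M).map (ClSub.idealModι ι.ker) ≫ t = β := by
    simp only [t, ← Category.assoc, ← Functor.map_comp, hs, α, Functor.map_preimage]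
    simp
  haveI : IsIso t := by
    refine isIso_of_bijective_compl ι hι (isFinLocFree_of_rank hT1) (isFinLocFree_extPow h₂ 2) t
      fun U hU h => ?_
    have hb : Function.Bijective (β.app U) := (hψ U hU (hproj U hU h).1 (hproj U hU h).2).comp
      (ConcreteCategory.bijective_of_isIso ((Scheme.Modules.toPresheaf P).map c.hom |>.app (.op U)))
    rw [← ht] at hb
    exact (Function.Bijective.of_comp_iff (t.app U) (bijective_idealModι_twist ι hM hU h)).1 hb
  obtain ⟨l, -⟩ := exists_leftUnitor M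
  exact ⟨(asIso t).symm ≪≫ l⟩

end Groth.SerreCorr
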