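import Groth.Agent.SerreCorr.Hom
import Groth.Agent.QCohMod.Coherent
import Groth.Agent.LocFree.Rank

/-!
# A locally split monomorphism from surjectivity of the dual map
-/

set_option autoImplicit false
set_option linter.style.haveILetI false
set_option backward.isDefEq.respectTransparency.types false

universe u

open CategoryTheory CategoryTheory.Limits AlgebraicGeometry TopologicalSpace

attribute [local instance] HasFiniteBiproducts.of_hasFiniteProducts

namespace Groth.SerreCorr

open Groth.Duality.StalkHom (pre)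

variable {X : Scheme.{u}}

/-- Exactness on the left of the dual of a short exact sequence. -/
theorem exact_pre {S : ShortComplex X.Modules} (hS : S.ShortExact) {G : X.Modules}
    [S.X₁.IsQuasicoherent] [S.X₂.IsQuasicoherent] [S.X₃.IsQuasicoherent]
    [(RefHull.homSh S.X₁ G).IsQuasicoherent] [(RefHull.homSh S.X₂ G).IsQuasicoherent] :
    ∃ w : pre G S.g ≫ pre G S.f = 0,
      (ShortComplex.mk (pre G S.g) (pre G S.f) w).Exact ∧ Mono (pre G S.g) := by
  have w : pre G S.g ≫ pre G S.f = 0 := by rw [← pre_comp, S.zero, pre_zero]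
  have hcov : ∀ x : X, ∃ U : X.Opens, IsAffineOpen U ∧ x ∈ U := fun x => by
    obtain ⟨_, ⟨U, hU, rfl⟩, hxU, -⟩ :=
      X.isBasis_affineOpens.exists_subset_of_mem_open (show x ∈ (⊤ : X.Opens) from trivial)
        (⊤ : X.Opens).2
    exact ⟨U, hU, hxU⟩
  refine ⟨w, ?_, ?_⟩
  · haveI : (ShortComplex.mk (pre G S.g) (pre G S.f) w).X₂.IsQuasicoherent := ‹_›
    haveI : (ShortComplex.mk (pre G S.g) (pre G S.f) w).X₃.IsQuasicoherent := ‹_›
    refine Groth.OmegaSheaf.exact_of_affine_cover _ fun x => ?_
    obtain ⟨U, hU, hx⟩ := hcov x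
    obtain ⟨hi, he, hs⟩ := Groth.KTheory.ExtFilt.sections_exact hS hU
    refine ⟨U, hU, hx, fun g hg => ?_⟩
    have h0 : RefRank.secToLin g ∘ₗ Groth.QCohMod.appₗ S.f U = 0 := by
      rw [← secToLin_pre]
      refine LinearMap.ext fun m => RefRank.mod_section_ext G fun y hy => ?_
      rw [RefRank.germ_secToLin, show (pre G S.f).app U g = 0 from hg, LinearMap.zero_apply, map_zero]
      rfl
    obtain ⟨b, hb⟩ := Duality.StalkHom.exists_desc hs he _ h0
    obtain ⟨g', hg'⟩ := RefRank.secToLin_surjective hU b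
    exact ⟨g', RefRank.secToLin_injective hU (by rw [secToLin_pre, hg', hb])⟩
  · refine (Preadditive.mono_iff_cancel_zero _).2 fun Q c hc =>
      Groth.KTheory.ExtFilt.hom_ext_affine fun U hU z => RefRank.secToLin_injective hU ?_
    obtain ⟨hi, he, hs⟩ := Groth.KTheory.ExtFilt.sections_exact hS hU
    have h : (pre G S.g).app U (c.app U z) = (pre G S.g).app U ((0 : Q ⟶ _).app U z) :=
      congr($(congrArg (fun φ : Q ⟶ _ => φ.app U) (hc.trans (zero_comp (f := pre G S.g)).symm)) z)
    have h2 := congrArg RefRank.secToLin h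
    rw [secToLin_pre, secToLin_pre] at h2
    exact LinearMap.ext fun v => by
      obtain ⟨m, rfl⟩ := hs v
      exact LinearMap.congr_fun h2 m

/-- If the dual of a monomorphism into a locally free module is an epimorphism, the cokernel is locally free. -/
theorem isFinLocFree_cokernel [IsLocallyNoetherian X] {G K M : X.Modules}
    (hG : FlatMod.IsFinLocFreeOfRank 1 G) (hK : FlatMod.IsFinLocFree K)
    (hM : FlatMod.IsFinLocFree M) (m : K ⟶ M) [Mono m] [Epi (pre G m)] :
    FlatMod.IsFinLocFree (cokernel m) := by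
  haveI := KTheory.LocFree.isQCoh hK
  have hC : Coh.IsCoh (cokernel m) := Groth.QCohMod.isCoh_cokernel m (KTheory.LocFree.isCoh hM)
  refine KTheory.LocFree.isFinLocFree_of_free_stalks hC fun x => ?_
  let T := ShortComplex.mk m (cokernel.π m) (cokernel.condition m)
  have hT : T.ShortExact :=
    { exact := ShortComplex.exact_of_g_is_cokernel _ (cokernelIsCokernel m) }
  obtain ⟨hi, hs, he⟩ := Duality.StalkHom.exact_stalk hT x
  haveI := KTheory.LocFree.free_stalk hK x
  haveI := Groth.LocFree.finite_stalk hK x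
  haveI := KTheory.LocFree.free_stalk hM x
  haveI := Groth.LocFree.finite_stalk hM x
  haveI := KTheory.LocFree.free_stalk (Groth.LocFree.isFinLocFree_of_rank hG) x
  haveI := Groth.LocFree.finite_stalk (Groth.LocFree.isFinLocFree_of_rank hG) x
  let e : G.presheaf.stalk x ≃ₗ[X.presheaf.stalk x] X.presheaf.stalk x :=
    LinearEquiv.ofFinrankEq (R := X.presheaf.stalk x) _ _
      ((Groth.LocFree.finrank_stalk hG x).trans (Module.finrank_self _).symm)
  have hsurj : ∀ ψ : K.presheaf.stalk x →ₗ[X.presheaf.stalk x] G.presheaf.stalk x,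
      ∃ χ : M.presheaf.stalk x →ₗ[X.presheaf.stalk x] G.presheaf.stalk x,
        χ ∘ₗ RefHull.stalkMapₗ m x = ψ := fun ψ => by
    obtain ⟨v, rfl⟩ := (VectorBundles.RefHullStalk.evalStalk_bijective_of_isCoh K G
      (KTheory.LocFree.isCoh hK) x).2 ψ
    obtain ⟨v', rfl⟩ := (QCohMod.epi_iff_stalk (pre G m)).1 inferInstance x v
    exact ⟨RefHull.evalStalk M G x v', (Duality.StalkHom.evalStalk_pre G m x v').symm⟩
  let b := Module.Free.chooseBasis (X.presheaf.stalk x) (K.presheaf.stalk x)
  choose χ hχ using fun i => hsurj (e.symm.toLinearMap ∘ₗ b.coord i)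
  let r : M.presheaf.stalk x →ₗ[X.presheaf.stalk x] K.presheaf.stalk x :=
    ∑ i, (e.toLinearMap ∘ₗ χ i).smulRight (b i)
  have hr : ∀ v, r (RefHull.stalkMapₗ m x v) = v := fun v => by
    refine Eq.trans ?_ (b.sum_repr v)
    simp only [r, LinearMap.sum_apply, LinearMap.smulRight_apply]
    refine Finset.sum_congr rfl fun i _ => ?_
    have := LinearMap.congr_fun (hχ i) v
    simp only [LinearMap.comp_apply, LinearEquiv.coe_coe] at this ⊢
    rw [this, e.apply_symm_apply]
    rfl
  obtain ⟨s, hs'⟩ := Duality.StalkHom.exists_desc hs he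
    (LinearMap.id - RefHull.stalkMapₗ m x ∘ₗ r) (LinearMap.ext fun v => by
      simp [hr, sub_eq_zero, T])
  have hid : RefHull.stalkMapₗ (cokernel.π m) x ∘ₗ s = LinearMap.id := LinearMap.ext fun v => by
    obtain ⟨w, rfl⟩ := hs v
    have h1 := LinearMap.congr_fun hs' w
    simp only [LinearMap.comp_apply, LinearMap.sub_apply, LinearMap.id_apply] at h1 ⊢
    rw [h1, map_sub]
    rw [show RefHull.stalkMapₗ (cokernel.π m) x (RefHull.stalkMapₗ m x (r w)) = 0 from
      he.apply_apply_eq_zero (r w), sub_zero]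
  haveI : Module.Projective (X.presheaf.stalk x) ((cokernel m).presheaf.stalk x) :=
    Module.Projective.of_split s (RefHull.stalkMapₗ (cokernel.π m) x) hid
  haveI : Module.Finite (X.presheaf.stalk x) ((cokernel m).presheaf.stalk x) :=
    Module.Finite.of_surjective _ hs
  exact Module.free_of_flat_of_isLocalRing

end Groth.SerreCorr
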