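import Groth.Agent.SerreCorr.Ext
import Groth.Agent.SerreCorr.Split
import Groth.Agent.VBCurves.Split
import Groth.Agent.PnHyper.Lift
import Groth.Agent.PnCoh.TwistQuot

/-!
# The rank two bundle of a codimension two subscheme of projective space
-/

set_option autoImplicit false
set_option linter.style.haveILetI false
set_option backward.isDefEq.respectTransparency.types false

universe u

open CategoryTheory CategoryTheory.Limits AlgebraicGeometry TopologicalSpace

attribute [local instance] HasFiniteBiproducts.of_hasFiniteProducts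

namespace Groth.SerreCorr

open Groth.Duality.StalkHom (pre)
open Groth.PicAux (oneSec)

theorem pre_comp_eq_zero {X : Scheme.{u}} {A B C G Z : X.Modules} {α : A ⟶ B} {β : B ⟶ C}
    {γ : A ⟶ C} (hγ : γ = α ≫ β) {h : RefHull.homSh A G ⟶ Z} (hh : pre G α ≫ h = 0) :
    pre G γ ≫ h = 0 := by
  rw [hγ, pre_comp, Category.assoc, hh, comp_zero]

section Pushout

variable {C : Type*} [Category C] [Abelian C] {K P G J : C}

/-- The extension obtained by pushing `0 → K → P → J → 0` along `φ : K → G`. -/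
theorem exists_pushout_seq (f : K ⟶ P) (g : P ⟶ J) (w : f ≫ g = 0)
    (hS : (ShortComplex.mk f g w).ShortExact) (φ : K ⟶ G) :
    ∃ (a : G ⟶ cokernel (biprod.lift φ f)) (b : cokernel (biprod.lift φ f) ⟶ J) (w' : a ≫ b = 0),
      (ShortComplex.mk a b w').ShortExact := by
  haveI : Mono f := hS.mono_f
  haveI : Epi g := hS.epi_g
  let m := biprod.lift φ f
  let π := cokernel.π m
  have hmg : m ≫ biprod.snd ≫ g = 0 := by simp [m, w]
  let b := cokernel.desc m (biprod.snd ≫ g) hmg
  have hb : π ≫ b = biprod.snd ≫ g := cokernel.π_desc m _ hmg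
  have w' : (biprod.inl ≫ π) ≫ b = 0 := by simp [Category.assoc, hb]
  have hm : (ShortComplex.mk m π (cokernel.condition m)).Exact :=
    ShortComplex.exact_of_g_is_cokernel _ (cokernelIsCokernel m)
  refine ⟨biprod.inl ≫ π, b, w', { exact := ?_, mono_f := ?_, epi_g := ?_ }⟩
  · rw [ShortComplex.exact_iff_exact_up_to_refinements]
    intro A x hx
    obtain ⟨A', q, hq, y, hy⟩ := surjective_up_to_refinements_of_epi π x
    have hyg : (y ≫ biprod.snd) ≫ g = 0 := by
      rw [Category.assoc, ← hb, ← Category.assoc y, ← hy, Category.assoc]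
      exact (congrArg (q ≫ ·) hx).trans comp_zero
    obtain ⟨A'', q', hq', z, hz⟩ := hS.exact.exact_up_to_refinements (y ≫ biprod.snd) hyg
    refine ⟨A'', q' ≫ q, epi_comp _ _, (q' ≫ y - z ≫ m) ≫ biprod.fst, ?_⟩
    have key : ((q' ≫ y - z ≫ m) ≫ biprod.fst) ≫ biprod.inl = q' ≫ y - z ≫ m := by
      apply biprod.hom_ext
      · simp
      · simp only [Category.assoc, biprod.inl_snd, comp_zero, Preadditive.sub_comp]
        rw [hz]
        simp [m]
    show (q' ≫ q) ≫ x = ((q' ≫ y - z ≫ m) ≫ biprod.fst) ≫ biprod.inl ≫ π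
    rw [← Category.assoc _ biprod.inl, key, Preadditive.sub_comp, Category.assoc z, cokernel.condition,
      comp_zero, sub_zero, Category.assoc, hy, Category.assoc]
  · rw [Preadditive.mono_iff_cancel_zero]
    intro A x hx
    obtain ⟨A', q, hq, y, hy⟩ := hm.exact_up_to_refinements (x ≫ biprod.inl)
      (by simpa [Category.assoc] using hx)
    have hy' : q ≫ x ≫ biprod.inl = y ≫ m := hy
    have h2 := congrArg (fun z => z ≫ biprod.snd) hy'
    simp only [Category.assoc, biprod.inl_snd, comp_zero, m, biprod.lift_snd] at h2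
    have hy0 : y = 0 := (cancel_mono f).1 (by rw [zero_comp]; exact h2.symm)
    have h1 := congrArg (fun z => z ≫ biprod.fst) hy'
    simp only [Category.assoc, biprod.inl_fst, hy0, zero_comp, Category.comp_id] at h1
    exact (cancel_epi q).1 (by rw [h1, comp_zero])
  · haveI : Epi (π ≫ b) := by rw [hb]; infer_instance
    exact epi_of_epi π b

end Pushout

variable {k : Type u} [Field k] {n : ℕ} {Y : Scheme.{u}} (ι : Y ⟶ CohB1.ProjSpace n k)
  [IsClosedImmersion ι]

local notation "ℙ" => CohB1.ProjSpace n k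
local notation "O(" d ")" => Twist.twistProjSpace n k d

/-- The extension `0 → O(-c) → E → J → 0` with `E` locally free, when `H²(O(-c)) = 0`. -/
theorem exists_bundle_of_h2 (hn : 2 ≤ n) (hι : RegImm.IsRegularImmersionOfCodim RegImm.Kind.regular 2 ι)
    (c : ℤ) {L : Y.Modules} (hL : ExtPow.IsExtPow 2 (Omega.conormal ι) L)
    (eL : L ≅ (Scheme.Modules.pullback ι).obj O(-c)) (h2 : Subsingleton (Coh.HH ℙ O(-c) 2)) :
    ∃ S : ShortComplex (ℙ).Modules, S.ShortExact ∧ Nonempty (S.X₁ ≅ O(-c)) ∧
      FlatMod.IsFinLocFree S.X₂ ∧ Nonempty (S.X₃ ≅ ClSub.idealMod ι.ker) := by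
  haveI := Groth.PnCoh.isLocallyNoetherian_projSpace n k
  haveI : HasInjectiveResolutions (ModSite.Mod (ℙ).sheaf) :=
    inferInstanceAs (HasInjectiveResolutions (ℙ).Modules)
  have hGi : PicF.IsInvertible O(-c) := Groth.PnCoh.isInvertible_twist n k _
  have hG1 := Groth.LocFree.isInvertible_iff_ofRank_one.1 hGi
  have hG := Groth.LocFree.isFinLocFree_of_rank hG1
  haveI hqG : (O(-c)).IsQuasicoherent := KTheory.LocFree.isQCoh hG
  obtain ⟨r, d, p, -, hp⟩ := Groth.PnCoh.exists_epi_twists (𝒜 := CohB1.polyGrading n k)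
    (ClSub.idealMod ι.ker) (Groth.RefRank.isCoh_idealMod ι.ker) 0
  let F : (ℙ).Modules := ∐ fun j : Fin r => Twist.twistProjSpace n k (d j)
  let p' : F ⟶ (ClSub.idealMod ι.ker : (ℙ).Modules) := p
  haveI : Epi p' := hp
  let S : ShortComplex (ℙ).Modules :=
    ShortComplex.mk (C := (ℙ).Modules) (kernel.ι p') p' (kernel.condition p')
  have hS : S.ShortExact :=
    { exact := ShortComplex.exact_of_f_is_kernel _ (kernelIsKernel _) }
  have hF : FlatMod.IsFinLocFree S.X₂ := Groth.LocFree.isFinLocFree_of_rank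
    (PnHyper.isFinLocFreeOfRank_sigma _ fun j => Groth.LocFree.isInvertible_iff_ofRank_one.1
      (Groth.PnCoh.isInvertible_twist n k _))
  have hK : FlatMod.IsFinLocFree S.X₁ := isFinLocFree_kernel ι hι hS (Iso.refl _) hF
  haveI := KTheory.LocFree.isQCoh hF
  haveI := KTheory.LocFree.isQCoh hK
  haveI : S.X₃.IsQuasicoherent := inferInstanceAs (ClSub.idealMod ι.ker).IsQuasicoherent
  haveI hqF : (RefHull.homSh S.X₂ O(-c)).IsQuasicoherent :=
    Groth.LocFree.isQCoh_homSh_of_isFinLocFree hF
  haveI hqK : (RefHull.homSh S.X₁ O(-c)).IsQuasicoherent :=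
    Groth.LocFree.isQCoh_homSh_of_isFinLocFree hK
  obtain ⟨q⟩ := nonempty_cokernel_pre ι hι hGi hL eL hS (Iso.refl _) hF
  obtain ⟨w, hex, hmono⟩ := exact_pre (G := O(-c)) hS
  let f := pre O(-c) S.f
  -- lifting global sections of the cokernel
  have h0 : Subsingleton (Coh.HH ℙ (kernel f) 2) := by
    haveI := hmono
    let i1 : RefHull.homSh (ClSub.idealMod ι.ker) O(-c) ≅ kernel f :=
      IsLimit.conePointUniqueUpToIso hex.fIsKernel (limit.isLimit _)
    haveI := isIso_pre_idealModι ι hι hG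
    obtain ⟨l⟩ : Nonempty (RefHull.homSh (Coh.structureModule ℙ) O(-c) ≅
        RefHull.homSh O((0 : ℤ)) O(-c)) :=
      nonempty_homSh_congr (Duality.Pn.nonempty_twist_zero_iso' n k).some
    obtain ⟨l'⟩ := nonempty_homSh_twist (n := n) (k := k) 0 (-c)
    haveI : Subsingleton (Coh.HH ℙ O(-c + -0) 2) := by rw [neg_zero, add_zero]; exact h2
    exact (EulerDeg.hEquiv k (i1.symm ≪≫ (asIso (pre O(-c) (ClSub.idealModι ι.ker))).symm ≪≫ l ≪≫ l')
      2).toEquiv.subsingleton
  have h1 : Subsingleton (Coh.HH ℙ (Abelian.image f) 1) := by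
    let T := ShortComplex.mk (kernel.ι f) (Abelian.factorThruImage f)
      ((cancel_mono (Abelian.image.ι f)).1 (by
        rw [Category.assoc, Abelian.image.fac, kernel.condition, zero_comp]))
    have hT : T.ShortExact :=
      { exact := ShortComplex.exact_of_f_is_kernel _ (KernelFork.IsLimit.ofι _ _
          (fun g hg => kernel.lift f g (by rw [← Abelian.image.fac f, ← Category.assoc, hg, zero_comp]))
          (fun g hg => kernel.lift_ι _ _ _)
          (fun g hg m hm => by
            apply (cancel_mono (kernel.ι f)).1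
            rw [hm, kernel.lift_ι]))
        mono_f := inferInstanceAs (Mono (kernel.ι f))
        epi_g := inferInstanceAs (Epi (Abelian.factorThruImage f)) }
    refine subsingleton_of_forall_eq 0 fun x => ?_
    obtain ⟨y, rfl⟩ := (EulerDeg.exact_right k hT 1 x).1 (@Subsingleton.elim _ h0 _ _)
    rw [show y = 0 from @Subsingleton.elim _ (subsingleton_homSh_twists d (-c) one_pos (by omega)) _ _]
    exact map_zero (EulerDeg.hMap k T.g 1)
  let U := ShortComplex.mk (Abelian.image.ι f) (cokernel.π f) (kernel.condition _)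
  have hU : U.ShortExact :=
    { exact := ShortComplex.exact_of_f_is_kernel _ (kernelIsKernel _)
      mono_f := inferInstanceAs (Mono (Abelian.image.ι f))
      epi_g := inferInstanceAs (Epi (cokernel.π f)) }
  have hsurj : Function.Surjective ((cokernel.π f).app ⊤) := VBCurves.surjective_app_top k hU h1
  -- a generating section
  obtain ⟨q₀⟩ := nonempty_quotMod_ker ι
  let s : Coh.structureModule ℙ ⟶ cokernel f := ClSub.toSubscheme ι.ker ≫ q₀.hom ≫ q.inv
  haveI : Epi (ClSub.toSubscheme ι.ker) := (Groth.PicAux.shortExact_idealMod ι.ker).epi_g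
  haveI : Epi s := epi_comp _ _
  obtain ⟨b, hb⟩ := hsurj (s.app ⊤ (oneSec ℙ ⊤))
  let φ : S.X₁ ⟶ O(-c) := Duality.StalkHom.toMor b
  let m := biprod.lift φ S.f
  haveI : Mono (S.f) := hS.mono_f
  haveI hmm : Mono m := mono_of_mono_fac (show m ≫ biprod.snd = S.f from biprod.lift_snd _ _)
  haveI : Epi (pre O(-c) m) := by
    rw [Preadditive.epi_iff_cancel_zero]
    intro Z h hh
    have hf : f ≫ h = 0 := by
      show pre O(-c) S.f ≫ h = 0
      exact pre_comp_eq_zero (biprod.lift_snd φ S.f).symm hh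
    let h' := cokernel.desc f h hf
    have hh' : cokernel.π f ≫ h' = h := cokernel.π_desc f h hf
    obtain ⟨t, ht⟩ := Groth.PicAux.exists_hom_structure
      (M := RefHull.homSh O(-c) O(-c)) (RefHull.ofHom (𝟙 O(-c)) ⊤)
    have hs : t ≫ pre O(-c) φ ≫ cokernel.π f = s := by
      refine Groth.PicAux.hom_structure_ext ?_
      show (cokernel.π f).app ⊤ ((pre O(-c) φ).app ⊤ (t.app ⊤ (oneSec ℙ ⊤))) = _
      refine Eq.trans (congrArg _ ?_) hb
      rw [ht]
      exact (pre_ofHom_id φ).trans (ofHom_toMor b)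
    have : s ≫ h' = 0 := by
      rw [← hs, Category.assoc, Category.assoc, hh']
      exact (congrArg (t ≫ ·) (pre_comp_eq_zero (biprod.lift_fst φ S.f).symm hh)).trans comp_zero
    rw [← hh', (cancel_epi s).1 (this.trans comp_zero.symm), comp_zero]
  obtain ⟨a, g, w', hE⟩ := exists_pushout_seq S.f S.g S.zero hS φ
  exact ⟨ShortComplex.mk a g w', hE, ⟨Iso.refl _⟩,
    isFinLocFree_cokernel hG1 hK (KTheory.LocFree.isFinLocFree_biprod hG hF) m, ⟨Iso.refl _⟩⟩

/-- The extension `0 → O(-c) → E → J → 0` with `E` locally free. -/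
theorem exists_bundle (hn : 3 ≤ n) (hι : RegImm.IsRegularImmersionOfCodim RegImm.Kind.regular 2 ι)
    (c : ℤ) {L : Y.Modules} (hL : ExtPow.IsExtPow 2 (Omega.conormal ι) L)
    (eL : L ≅ (Scheme.Modules.pullback ι).obj O(-c)) :
    ∃ S : ShortComplex (ℙ).Modules, S.ShortExact ∧ Nonempty (S.X₁ ≅ O(-c)) ∧
      FlatMod.IsFinLocFree S.X₂ ∧ Nonempty (S.X₃ ≅ ClSub.idealMod ι.ker) :=
  exists_bundle_of_h2 ι (by omega) hι c hL eL
    (Groth.PnCoh.subsingleton_HH_twist (n := n) (R := k) (-c) 2 (by omega) (by omega))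

end Groth.SerreCorr
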