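import Groth.Agent.SerreCorr.Local
import Groth.Agent.CohTwo.SheafHomIso
import Groth.Agent.CohTwo.LocFreeExt
import Groth.Agent.Duality.SheafHomTwist
import Groth.Agent.Duality.Represent
import Groth.Agent.PnCoh.VanishingClosed
import Groth.Agent.EulerDeg.HLinear

/-!
# Functoriality of the sheaf Hom in the first variable, and duals of sums of twists
-/

set_option autoImplicit false
set_option linter.style.haveILetI false
set_option backward.isDefEq.respectTransparency.types false

universe u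

open CategoryTheory CategoryTheory.Limits AlgebraicGeometry TopologicalSpace

namespace Groth.SerreCorr

open Groth.Duality.StalkHom (pre pre_val)
open Groth.QCohMod (exists_germ)

variable {X : Scheme.{u}} {A B C G : X.Modules}

theorem stalkMapₗ_id (x : X) : RefHull.stalkMapₗ (𝟙 A) x = LinearMap.id :=
  LinearMap.ext fun v => by
    obtain ⟨U, hx, m, rfl⟩ := exists_germ A x v
    exact RefHull.stalkMapₗ_germ _ x hx m

theorem stalkMapₗ_add (α β : A ⟶ B) (x : X) :
    RefHull.stalkMapₗ (α + β) x = RefHull.stalkMapₗ α x + RefHull.stalkMapₗ β x :=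
  LinearMap.ext fun v => by
    obtain ⟨U, hx, m, rfl⟩ := exists_germ A x v
    rw [LinearMap.add_apply]
    refine (RefHull.stalkMapₗ_germ _ x hx m).trans ?_
    refine Eq.trans ?_ (congrArg₂ (· + ·) (RefHull.stalkMapₗ_germ α x hx m).symm
      (RefHull.stalkMapₗ_germ β x hx m).symm)
    exact map_add _ _ _

theorem pre_ext {α : RefHull.homSh B G ⟶ RefHull.homSh A G} {β : RefHull.homSh B G ⟶ RefHull.homSh A G}
    (h : ∀ (U : X.Opens) (g : Γ(RefHull.homSh B G, U)) (x : U), (α.app U g).1 x = (β.app U g).1 x) :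
    α = β :=
  Scheme.Modules.hom_ext _ _ fun U => by
    ext g
    exact RefRank.hom_ext_sec (h U g)

theorem pre_id : pre G (𝟙 A) = 𝟙 _ :=
  pre_ext fun U g x => by
    rw [pre_val, stalkMapₗ_id, LinearMap.comp_id]
    rfl

theorem pre_comp (α : A ⟶ B) (β : B ⟶ C) : pre G (α ≫ β) = pre G β ≫ pre G α :=
  Scheme.Modules.hom_ext _ _ fun U => by
    ext g
    refine RefRank.hom_ext_sec fun x => ?_
    rw [pre_val]
    refine Eq.trans ?_ (pre_val G α ((pre G β).app U g) x).symm
    rw [pre_val, LinearMap.comp_assoc]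
    exact congrArg _ (LinearMap.ext fun v => Duality.StalkHom.stalkMapₗ_comp_apply α β x.1 v)

theorem pre_add (α β : A ⟶ B) : pre G (α + β) = pre G α + pre G β :=
  pre_ext fun U g x => by
    rw [pre_val, stalkMapₗ_add, LinearMap.comp_add]
    refine Eq.trans (congrArg₂ (· + ·) (pre_val G α g x).symm (pre_val G β g x).symm) ?_
    rfl

theorem pre_zero : pre G (0 : A ⟶ B) = 0 := by
  have h := pre_add (G := G) (0 : A ⟶ B) 0
  rw [add_zero] at h
  exact left_eq_add.1 h

theorem pre_sum {κ : Type} (s : Finset κ) (α : κ → (A ⟶ B)) :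
    pre G (∑ j ∈ s, α j) = ∑ j ∈ s, pre G (α j) :=
  map_sum (AddMonoidHom.mk' (pre G) fun a b => pre_add a b) α s

/-- A coproduct is killed by cohomology of the sheaf Hom if every summand is. -/
theorem subsingleton_homSh_sigma {k : Type u} [Field k] [X.Over (Spec (CommRingCat.of k))] {r : ℕ}
    (F : Fin r → X.Modules) (q : ℕ) (h : ∀ j, Subsingleton (Coh.HH X (RefHull.homSh (F j) G) q)) :
    Subsingleton (Coh.HH X (RefHull.homSh (∐ F) G) q) := by
  classical
  let π : ∀ j, (∐ F) ⟶ F j := fun j =>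
    Sigma.desc fun i => if e : i = j then eqToHom (congrArg F e) else 0
  have hid : 𝟙 (∐ F) = ∑ j, π j ≫ Sigma.ι F j := by
    refine Sigma.hom_ext _ _ fun i => ?_
    rw [Category.comp_id, Preadditive.comp_sum, Finset.sum_eq_single i]
    · rw [← Category.assoc]
      simp [π]
    · intro j _ hj
      rw [← Category.assoc]
      simp [π, Ne.symm hj]
    · simp
  refine subsingleton_of_forall_eq 0 fun x => ?_
  have hx : (EulerDeg.hMap k (pre G (𝟙 (∐ F))) q) x = x := by
    rw [pre_id, EulerDeg.hMap_id]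
    rfl
  rw [hid, pre_sum, Groth.Duality.hMap_sum, LinearMap.sum_apply] at hx
  rw [← hx]
  refine Finset.sum_eq_zero fun j _ => ?_
  rw [pre_comp, EulerDeg.hMap_comp, LinearMap.comp_apply,
    @Subsingleton.elim _ (h j) ((EulerDeg.hMap k (pre G (Sigma.ι F j)) q) x) 0, map_zero]

theorem nonempty_homSh_congr (e : A ≅ B) : Nonempty (RefHull.homSh B G ≅ RefHull.homSh A G) :=
  ⟨{ hom := pre G e.hom
     inv := pre G e.inv
     hom_inv_id := by rw [← pre_comp, e.inv_hom_id, pre_id]
     inv_hom_id := by rw [← pre_comp, e.hom_inv_id, pre_id] }⟩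

theorem pre_ofHom_id (φ : A ⟶ G) :
    (pre G φ).app ⊤ (RefHull.ofHom (𝟙 G) ⊤) = RefHull.ofHom φ ⊤ :=
  RefRank.hom_ext_sec fun x => by
    rw [pre_val, RefHull.ofHom_apply, RefHull.ofHom_apply, stalkMapₗ_id, LinearMap.id_comp]

theorem ofHom_toMor (b : Γ(RefHull.homSh A G, ⊤)) :
    RefHull.ofHom (Duality.StalkHom.toMor b) ⊤ = b :=
  RefRank.hom_ext_sec fun x => by
    rw [RefHull.ofHom_apply, Duality.StalkHom.stalkMapₗ_toMor]

variable {k : Type u} [Field k] {n : ℕ}

/-- `Hom(O(d), O(e)) ≅ O(e - d)`. -/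
theorem nonempty_homSh_twist (d e : ℤ) :
    Nonempty (RefHull.homSh (Twist.twistProjSpace n k d) (Twist.twistProjSpace n k e) ≅
      Twist.twistProjSpace n k (e + -d)) := by
  haveI : DCoh.HasSheafHom (Twist.twistProjSpace n k d) := CohTwo.LocFreeExt.hasSheafHom _
  obtain ⟨t⟩ := Duality.Pn.nonempty_twist_tensor n k e (-d)
  exact ⟨(CohTwo.SheafHomIso.iso _ _).symm ≪≫
    (Duality.SheafHom.sheafHomIsoTensor (Duality.Pn.isInverseOf_twist n k d)).app _ ≪≫ t⟩

theorem subsingleton_homSh_twists {r : ℕ} (d : Fin r → ℤ) (e : ℤ) {q : ℕ} (h0 : 0 < q) (hq : q < n) :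
    Subsingleton (Coh.HH (CohB1.ProjSpace n k)
      (RefHull.homSh (∐ fun j => Twist.twistProjSpace n k (d j)) (Twist.twistProjSpace n k e)) q) := by
  refine subsingleton_homSh_sigma (k := k) _ q fun j => ?_
  obtain ⟨ε⟩ := nonempty_homSh_twist (n := n) (k := k) (d j) e
  haveI := Groth.PnCoh.subsingleton_HH_twist (n := n) (R := k) (e + -d j) q (by omega) (by omega)
  exact (EulerDeg.hEquiv k ε q).toEquiv.subsingleton

end Groth.SerreCorr
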