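import Mathlib.RingTheory.Regular.RegularSequence
import Mathlib.Algebra.Module.Projective
import Groth.Agent.S2159
import Groth.Agent.KTheory.ExtFilt
import Mathlib.LinearAlgebra.ExteriorPower.Basis

/-!
# Ideals generated by a regular sequence of length two
-/

set_option autoImplicit false

universe u

open Pointwise TensorProduct

namespace Groth.SerreCorr

variable {R : Type u} [CommRing R]

/-- `f, g` is a weakly regular sequence, elementwise. -/
structure RegPair (f g : R) : Prop where
  left : IsSMulRegular R f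
  right : ∀ x y : R, g * x = f * y → ∃ z, x = f * z

/-- The unit ideal or an ideal generated by a regular pair. -/
def IdealPair (I : Ideal R) : Prop := I = ⊤ ∨ ∃ f g : R, RegPair f g ∧ I = Ideal.span {f, g}

theorem idealPair_ofList (rs : List R) (hl : rs.length = 2)
    (h : RingTheory.Sequence.IsWeaklyRegular R rs) : IdealPair (Ideal.ofList rs) := by
  obtain ⟨f, g, rfl⟩ := List.length_eq_two.1 hl
  rw [RingTheory.Sequence.isWeaklyRegular_cons_iff, RingTheory.Sequence.isWeaklyRegular_cons_iff] at h
  refine Or.inr ⟨f, g, ⟨h.1, fun x y hxy => ?_⟩, by simp [Ideal.span_insert]⟩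
  have h2 := (isSMulRegular_quotient_iff_mem_of_smul_mem _ _).1 h.2.1 x
    (by
      rw [smul_eq_mul, hxy, Submodule.mem_smul_pointwise_iff_exists]
      exact ⟨y, Submodule.mem_top, rfl⟩)
  rw [Submodule.mem_smul_pointwise_iff_exists] at h2
  obtain ⟨z, -, hz⟩ := h2
  exact ⟨z, hz.symm⟩

namespace RegPair

variable {f g : R}

theorem pow_left (h : RegPair f g) : ∀ m, RegPair (f ^ m) g := by
  intro m
  refine ⟨h.left.pow m, ?_⟩
  induction m with
  | zero => exact fun x y _ => ⟨x, by rw [pow_zero, one_mul]⟩
  | succ m ih =>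
    intro x y hxy
    obtain ⟨z, rfl⟩ := h.right x (f ^ m * y) (by rw [hxy, pow_succ]; ring)
    have : g * z = f ^ m * y := h.left (by
      simp only [smul_eq_mul]
      linear_combination hxy)
    obtain ⟨w, rfl⟩ := ih z y this
    exact ⟨w, by rw [pow_succ]; ring⟩

theorem pow_right (h : RegPair f g) : ∀ m, RegPair f (g ^ m) := by
  intro m
  refine ⟨h.left, ?_⟩
  induction m with
  | zero => exact fun x y hxy => ⟨y, by simpa using hxy⟩
  | succ m ih =>
    intro x y hxy
    obtain ⟨z, hz⟩ := ih (g * x) y (by rw [← hxy, pow_succ]; ring)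
    exact h.right x z hz

variable {M : Type u} [AddCommGroup M] [Module R M] [Module.Projective R M]

theorem smul_left_cancel (h : RegPair f g) {x y : M} (e : f • x = f • y) : x = y := by
  obtain ⟨s, hs⟩ := Module.projective_def'.1 (inferInstance : Module.Projective R M)
  have hinj : Function.Injective s := Function.LeftInverse.injective (g := Finsupp.linearCombination R id) (LinearMap.congr_fun hs)
  refine hinj (Finsupp.ext fun i => h.left ?_)
  have := congrArg (fun c : M →₀ R => c i) (congrArg s e)
  simpa only [map_smul, Finsupp.smul_apply] using this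

theorem exists_eq_smul (h : RegPair f g) {x y : M} (e : g • x = f • y) : ∃ z, x = f • z := by
  obtain ⟨s, hs⟩ := Module.projective_def'.1 (inferInstance : Module.Projective R M)
  classical
  have hc : ∀ i, ∃ c, s x i = f * c := fun i => h.right _ (s y i) (by
    have := congrArg (fun c : M →₀ R => c i) (congrArg s e)
    simpa only [map_smul, Finsupp.smul_apply, smul_eq_mul] using this)
  choose c hc using hc
  let d : M →₀ R := ∑ i ∈ (s x).support, Finsupp.single i (c i)
  have hd : f • d = s x := by
    conv_rhs => rw [← Finsupp.sum_single (s x)]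
    rw [Finset.smul_sum, Finsupp.sum]
    exact Finset.sum_congr rfl fun i _ => by rw [Finsupp.smul_single, smul_eq_mul, ← hc]
  refine ⟨Finsupp.linearCombination R id d, ?_⟩
  rw [← map_smul, hd]
  exact (LinearMap.congr_fun hs x).symm

end RegPair

variable {I : Ideal R} {M : Type u} [AddCommGroup M] [Module R M] [Module.Projective R M]

/-- Linear maps from the ideal to a projective module extend uniquely to the ring. -/
theorem IdealPair.bijective_restrict (hI : IdealPair I) :
    Function.Bijective (fun φ : R →ₗ[R] M => φ ∘ₗ I.subtype) := by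
  rcases hI with rfl | ⟨f, g, h, rfl⟩
  · refine ⟨fun φ ψ e => LinearMap.ext fun x => LinearMap.congr_fun e ⟨x, trivial⟩, fun φ => ?_⟩
    exact ⟨φ ∘ₗ (LinearMap.id.codRestrict ⊤ fun _ => trivial), LinearMap.ext fun x => rfl⟩
  have hf : f ∈ Ideal.span {f, g} := Ideal.subset_span (Set.mem_insert _ _)
  have hg : g ∈ Ideal.span {f, g} := Ideal.subset_span (Set.mem_insert_of_mem _ rfl)
  refine ⟨fun φ ψ e => LinearMap.ext_ring (h.smul_left_cancel ?_), fun φ => ?_⟩
  · have := LinearMap.congr_fun e ⟨f, hf⟩
    simp only [LinearMap.comp_apply, Submodule.subtype_apply] at this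
    rwa [← map_smul, ← map_smul, smul_eq_mul, mul_one]
  · have e : g • φ ⟨f, hf⟩ = f • φ ⟨g, hg⟩ := by
      rw [← map_smul, ← map_smul]
      exact congrArg φ (Subtype.ext (mul_comm g f))
    obtain ⟨z, hz⟩ := h.exists_eq_smul e
    have hgz : φ ⟨g, hg⟩ = g • z := h.smul_left_cancel (by rw [← e, hz, smul_comm])
    refine ⟨LinearMap.toSpanSingleton R M z, LinearMap.ext fun ⟨x, hx⟩ => ?_⟩
    obtain ⟨a, b, rfl⟩ := Ideal.mem_span_pair.1 hx
    have : (⟨a * f + b * g, hx⟩ : Ideal.span {f, g}) = a • ⟨f, hf⟩ + b • ⟨g, hg⟩ := Subtype.ext rfl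
    rw [this]
    simp only [map_add, map_smul, LinearMap.comp_apply, Submodule.subtype_apply,
      LinearMap.toSpanSingleton_apply, hz, hgz]

/-- Kernels of surjections from projective modules onto the ideal are projective. -/
theorem IdealPair.projective_ker (hI : IdealPair I) {P : Type u} [AddCommGroup P] [Module R P]
    [Module.Projective R P] (p : P →ₗ[R] I) (hp : Function.Surjective p) :
    Module.Projective R (LinearMap.ker p) := by
  rcases hI with rfl | ⟨f, g, h, rfl⟩
  · haveI : Module.Projective R (⊤ : Ideal R) := Module.Projective.of_equiv Submodule.topEquiv.symm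
    obtain ⟨e⟩ := Groth.Agent.S2159.result p (LinearMap.id) hp Function.surjective_id
    haveI : Subsingleton (LinearMap.ker (LinearMap.id : (⊤ : Ideal R) →ₗ[R] (⊤ : Ideal R))) := by
      rw [LinearMap.ker_id]
      infer_instance
    haveI : Module.Projective R (LinearMap.ker p × (⊤ : Ideal R)) := Module.Projective.of_equiv e.symm
    exact Module.Projective.of_split (LinearMap.inl R _ (⊤ : Ideal R)) (LinearMap.fst R (LinearMap.ker p) (⊤ : Ideal R)) (LinearMap.fst_comp_inl ..)
  let q : R × R →ₗ[R] Ideal.span {f, g} := LinearMap.codRestrict _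
    ((LinearMap.fst R R R).smulRight f + (LinearMap.snd R R R).smulRight g)
    fun x => Ideal.mem_span_pair.2 ⟨x.1, x.2, rfl⟩
  have hq : Function.Surjective q := fun ⟨x, hx⟩ => by
    obtain ⟨a, b, rfl⟩ := Ideal.mem_span_pair.1 hx
    exact ⟨(a, b), rfl⟩
  let j : R →ₗ[R] LinearMap.ker q := LinearMap.codRestrict _ (LinearMap.toSpanSingleton R (R × R) (-g, f))
    fun c => LinearMap.mem_ker.2 (Subtype.ext (show c * -g * f + c * f * g = 0 by ring))
  have hj : Function.Bijective j := by
    refine ⟨fun a b e => h.left ?_, fun ⟨⟨a, b⟩, hab⟩ => ?_⟩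
    · have : a * f = b * f := congrArg Prod.snd (congrArg Subtype.val e)
      simpa [mul_comm f] using this
    · have hab : a * f + b * g = 0 := congrArg Subtype.val (LinearMap.mem_ker.1 hab)
      obtain ⟨z, rfl⟩ := h.right b (-a) (by linear_combination hab)
      refine ⟨z, Subtype.ext (Prod.ext ?_ ?_)⟩
      · exact h.left (show f * (z * -g) = f * a by linear_combination -hab)
      · exact mul_comm z f
  obtain ⟨e⟩ := Groth.Agent.S2159.result p q hp hq
  haveI : Module.Projective R (LinearMap.ker q) :=
    Module.Projective.of_equiv (LinearEquiv.ofBijective j hj)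
  haveI : Module.Projective R (LinearMap.ker p × (R × R)) := Module.Projective.of_equiv e.symm
  exact Module.Projective.of_split (LinearMap.inl R _ (R × R)) (LinearMap.fst R (LinearMap.ker p) (R × R)) (LinearMap.fst_comp_inl ..)

/-- A map out of the ring into a projective module that is bijective away from the ideal, in the form
that multiples of every element by powers of `f` and `g` lie in the image, is bijective. -/
theorem RegPair.bijective_of_pow {f g : R} (h : RegPair f g) (s : R →ₗ[R] M)
    (hs : ∀ a, s a = 0 → ∃ N, f ^ N * a = 0)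
    (hf : ∀ m, ∃ (N : ℕ) (a : R), f ^ N • m = s a) (hg : ∀ m, ∃ (N : ℕ) (a : R), g ^ N • m = s a) :
    Function.Bijective s := by
  have hinj : Function.Injective s := by
    refine (injective_iff_map_eq_zero s).2 fun a ha => ?_
    obtain ⟨N, hN⟩ := hs a ha
    exact (h.left.pow N) (by simpa using hN)
  refine ⟨hinj, fun m => ?_⟩
  obtain ⟨p, u, hu⟩ := hf m
  obtain ⟨q, v, hv⟩ := hg m
  have e : g ^ q * u = f ^ p * v := hinj (by
    rw [← smul_eq_mul, ← smul_eq_mul, map_smul, map_smul, ← hu, ← hv, smul_comm])
  obtain ⟨w, rfl⟩ := ((h.pow_left p).pow_right q).right u v e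
  refine ⟨w, ((h.pow_left p).smul_left_cancel ?_).symm⟩
  rw [hu, ← smul_eq_mul, map_smul]

/-- The same, for a map between projective modules. -/
theorem RegPair.bijective_of_pow' {f g : R} (h : RegPair f g) {A : Type u} [AddCommGroup A]
    [Module R A] [Module.Projective R A] (s : A →ₗ[R] M)
    (hs : ∀ a, s a = 0 → ∃ N, f ^ N • a = 0)
    (hf : ∀ m, ∃ (N : ℕ) (a : A), f ^ N • m = s a) (hg : ∀ m, ∃ (N : ℕ) (a : A), g ^ N • m = s a) :
    Function.Bijective s := by
  have hinj : Function.Injective s := by
    refine (injective_iff_map_eq_zero s).2 fun a ha => ?_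
    obtain ⟨N, hN⟩ := hs a ha
    exact (h.pow_left N).smul_left_cancel (hN.trans (smul_zero _).symm)
  refine ⟨hinj, fun m => ?_⟩
  obtain ⟨p, u, hu⟩ := hf m
  obtain ⟨q, v, hv⟩ := hg m
  have e : g ^ q • u = f ^ p • v := hinj (by
    rw [map_smul, map_smul, ← hu, ← hv, smul_comm])
  obtain ⟨w, rfl⟩ := ((h.pow_left p).pow_right q).exists_eq_smul e
  refine ⟨w, ((h.pow_left p).smul_left_cancel ?_).symm⟩
  rw [hu, map_smul]

theorem mu_eq_zero_of_pi {M' M M'' : Type u} [AddCommGroup M'] [Module R M'] [AddCommGroup M]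
    [Module R M] [AddCommGroup M''] [Module R M''] {f : M' →ₗ[R] M} {g : M →ₗ[R] M''}
    (hfg : Function.Exact f g) (hg : Function.Surjective g) [Subsingleton (⋀[R]^2 M')]
    (h : 1 + 1 = 1 + 1) {z : (⋀[R]^1 M') ⊗[R] (⋀[R]^1 M)}
    (hz : Groth.KTheory.ExtFilt.pi g z = 0) : Groth.KTheory.ExtFilt.mu f h z = 0 := by
  have hex : Function.Exact (exteriorPower.map 1 f) (exteriorPower.map 1 g) := by
    intro y
    obtain ⟨x, rfl⟩ := (exteriorPower.oneEquiv R M).symm.surjective y
    have key : ∀ {A B : Type u} [AddCommGroup A] [Module R A] [AddCommGroup B] [Module R B]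
        (φ : A →ₗ[R] B) (a : A), exteriorPower.map 1 φ ((exteriorPower.oneEquiv R A).symm a) =
          (exteriorPower.oneEquiv R B).symm (φ a) := fun φ a => by
      apply (exteriorPower.oneEquiv R _).injective
      rw [LinearEquiv.apply_symm_apply,
        show (exteriorPower.oneEquiv R _).symm a = exteriorPower.ιMulti R 1 (fun _ => a) from rfl,
        exteriorPower.map_apply_ιMulti, exteriorPower.oneEquiv_ιMulti]
      rfl
    rw [key, LinearEquiv.map_eq_zero_iff]
    refine ⟨fun hx => ?_, ?_⟩
    · obtain ⟨w, rfl⟩ := (hfg x).1 hx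
      exact ⟨(exteriorPower.oneEquiv R M').symm w, key f w⟩
    · rintro ⟨w, hw⟩
      obtain ⟨w, rfl⟩ := (exteriorPower.oneEquiv R M').symm.surjective w
      rw [key] at hw
      rw [← (exteriorPower.oneEquiv R M).symm.injective hw]
      exact hfg.apply_apply_eq_zero w
  obtain ⟨y, rfl⟩ := (lTensor_exact (⋀[R]^1 M') hex (exteriorPower.map_surjective hg) z).1 hz
  induction y using Groth.KTheory.ExtFilt.tensor_wedge_induction with
  | zero => simp
  | add a b ha hb => rw [map_add, map_add, ha (by rw [Groth.KTheory.ExtFilt.pi, ← LinearMap.comp_apply,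
      ← LinearMap.lTensor_comp, hex.linearMap_comp_eq_zero, LinearMap.lTensor_zero, LinearMap.zero_apply]),
      hb (by rw [Groth.KTheory.ExtFilt.pi, ← LinearMap.comp_apply,
      ← LinearMap.lTensor_comp, hex.linearMap_comp_eq_zero, LinearMap.lTensor_zero, LinearMap.zero_apply]),
      add_zero]
  | smul c a ha => rw [map_smul, map_smul, ha (by rw [Groth.KTheory.ExtFilt.pi, ← LinearMap.comp_apply,
      ← LinearMap.lTensor_comp, hex.linearMap_comp_eq_zero, LinearMap.lTensor_zero, LinearMap.zero_apply]),
      smul_zero]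
  | wedge u v =>
    rw [LinearMap.lTensor_tmul, exteriorPower.map_apply_ιMulti, Groth.KTheory.ExtFilt.mu_wedge]
    have e : Fin.append (f ∘ u) (f ∘ v) ∘ Fin.cast h.symm = f ∘ Fin.append u v := by
      funext i
      fin_cases i <;> rfl
    rw [e, ← exteriorPower.map_apply_ιMulti,
      Subsingleton.elim (exteriorPower.ιMulti R (1 + 1) (Fin.append u v) : ⋀[R]^2 M') 0]
    exact map_zero _

end Groth.SerreCorr
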