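import Groth.Agent.SerreCorr.Hom
import Groth.Agent.Duality.FundLocal.SmoothImm
import Groth.Agent.Duality.ExtShShift
import Groth.Agent.PicAux.PicLaw
import Groth.Agent.PicAux.EffCartierLine
import Groth.Agent.SiteCohomology.SchemeModules

/-!
# The first Ext sheaf of a codimension two ideal
-/

set_option autoImplicit false
set_option linter.style.haveILetI false
set_option backward.isDefEq.respectTransparency.types false

universe u

open CategoryTheory CategoryTheory.Limits AlgebraicGeometry TopologicalSpace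

namespace Groth.SerreCorr

open Groth.Duality.StalkHom (pre)
open Groth.Duality.FundLocal (pushO)

variable {P Y : Scheme.{u}} (ι : Y ⟶ P) [IsClosedImmersion ι]

/-- `O/J = ι_* O_Y`. -/
theorem nonempty_quotMod_ker :
    Nonempty (ClSub.quotMod ι.ker ≅ (Scheme.Modules.pushforward ι).obj (Coh.structureModule Y)) := by
  haveI : IsIso ι.toImage := inferInstance
  haveI : IsIso (Groth.PicAux.pushUnit ι.toImage) := by
    rw [Scheme.Modules.Hom.isIso_iff_isIso_app]
    intro U
    rw [ConcreteCategory.isIso_iff_bijective]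
    exact ConcreteCategory.bijective_of_isIso (ι.toImage.app U)
  exact ⟨(Scheme.Modules.pushforward ι.ker.subschemeι).mapIso (asIso (Groth.PicAux.pushUnit ι.toImage)) ≪≫
    (Scheme.Modules.pushforwardComp ι.toImage ι.ker.subschemeι).app _ ≪≫
    (Scheme.Modules.pushforwardCongr ι.toImage_imageι).app _⟩

/-- `Ext¹(J, G) ≅ ι_* O_Y` when the determinant of the conormal sheaf is `ι^*G`. -/
theorem nonempty_cokernel_pre (hι : RegImm.IsRegularImmersionOfCodim RegImm.Kind.regular 2 ι)
    [HasInjectiveResolutions (ModSite.Mod P.sheaf)] {G : P.Modules} (hG : PicF.IsInvertible G)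
    {L : Y.Modules} (hL : ExtPow.IsExtPow 2 (Omega.conormal ι) L)
    (eL : L ≅ (Scheme.Modules.pullback ι).obj G)
    {S : ShortComplex P.Modules} (hS : S.ShortExact) (e : S.X₃ ≅ ClSub.idealMod ι.ker)
    (h₂ : FlatMod.IsFinLocFree S.X₂) :
    Nonempty (cokernel (pre G S.f) ≅ (Scheme.Modules.pushforward ι).obj (Coh.structureModule Y)) := by
  haveI := KTheory.LocFree.isQCoh (Groth.LocFree.isFinLocFree_of_rank
    (Groth.LocFree.isInvertible_iff_ofRank_one.1 hG))
  haveI := SitesTopoi.ModH.hasSheafHom (O := P.sheaf) S.X₁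
  haveI := SitesTopoi.ModH.hasSheafHom (O := P.sheaf) S.X₃
  haveI : ModSite.HasSheafHom (O := P.sheaf) (pushO ι) := SitesTopoi.ModH.hasSheafHom _
  obtain ⟨e1⟩ := Duality.ExtShShift.nonempty_extSh_one hS h₂ G
  obtain ⟨q₀⟩ := nonempty_quotMod_ker ι
  let q := q₀.symm
  have hk : ClSub.idealModι ι.ker ≫ ClSub.toSubscheme ι.ker = 0 := kernel.condition _
  have hT0 := Groth.PicAux.shortExact_idealMod ι.ker
  let T' := ShortComplex.mk (e.hom ≫ ClSub.idealModι ι.ker) (ClSub.toSubscheme ι.ker ≫ q.inv)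
    (by rw [Category.assoc, ← Category.assoc (ClSub.idealModι ι.ker), hk, zero_comp, comp_zero])
  have hT : T'.ShortExact := ShortComplex.shortExact_of_iso
    (ShortComplex.isoMk (S₁ := ShortComplex.mk (ClSub.idealModι ι.ker) (ClSub.toSubscheme ι.ker)
      (kernel.condition _)) (S₂ := T') e.symm (Iso.refl _) q.symm (by simp [T']) (by simp [T'])) hT0
  haveI : ModSite.HasSheafHom (O := P.sheaf) T'.X₁ := SitesTopoi.ModH.hasSheafHom _
  haveI : ModSite.HasSheafHom (O := P.sheaf) T'.X₃ := SitesTopoi.ModH.hasSheafHom _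
  obtain ⟨e2⟩ := Duality.ExtShShift.nonempty_extSh_shift (S := T') hT
    (Groth.LocFree.isFinLocFree_unit P) 0 G
  haveI : DCoh.HasSheafHom L := CohTwo.LocFreeExt.hasSheafHom _
  obtain ⟨e3⟩ := Duality.FundLocal.nonempty_extSh_iso_of_isExtPow ι hι G L hL
  have hLi : PicF.IsInvertible L := Groth.PicAux.isInvertible_of_iso
    (Groth.PicAux.isInvertible_pullback ι hG) eL.symm
  obtain ⟨e4⟩ := Duality.FundLocal.nonempty_sheafHom_tensor_iso (M := Coh.structureModule Y) hLi
  exact ⟨e1.symm ≪≫ e2.symm ≪≫ e3 ≪≫ (Scheme.Modules.pushforward ι).mapIso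
    ((DCoh.sheafHom L).mapIso (eL.symm ≪≫ (SecTwist.unitorR L).symm) ≪≫ e4)⟩

end Groth.SerreCorr
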