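import Groth.Agent.SerreCorr.Algebra
import Groth.Agent.Duality.FundLocal.Corollaries
import Groth.Agent.Duality.StalkHom
import Groth.Agent.RefRank.DivSheaf
import Groth.Agent.LocFree.Affine
import Groth.Agent.LocFree.AffineHom
import Groth.Agent.KTheory.LocFree
import Groth.Agent.KTheory.ExtFiltSheaf

/-!
# Local structure of the ideal of a codimension two regular immersion
-/

set_option autoImplicit false
set_option linter.style.haveILetI false
set_option backward.isDefEq.respectTransparency.types false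

universe u

open CategoryTheory CategoryTheory.Limits AlgebraicGeometry TopologicalSpace

namespace Groth.SerreCorr

open Groth.QCohMod (appₗ)
open Groth.Duality.FundLocal (Good exists_good)
open Groth.Duality.StalkHom (pre pre_val)
open Groth.RefRank (secToLin germ_secToLin secToLin_injective secToLin_surjective)

variable {P Y : Scheme.{u}} (ι : Y ⟶ P) [IsClosedImmersion ι]

theorem idealPair_of_good {U : P.Opens} (hG : Good ι 2 U) :
    IdealPair (ι.ker.ideal ⟨U, hG.1⟩) := by
  rcases hG.2 with ⟨rs, hl, hw, hI⟩ | hbot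
  · have e : ι.ker.ideal ⟨U, hG.1⟩ = Ideal.ofList rs := (Scheme.Hom.ker_apply ι ⟨U, hG.1⟩).trans hI
    rw [e]
    exact idealPair_ofList rs hl hw
  · refine Or.inl ((Scheme.Hom.ker_apply ι ⟨U, hG.1⟩).trans (eq_top_iff.2 fun x _ => ?_))
    haveI := Groth.Duality.FundLocal.subsingleton_sections (Coh.structureModule Y) hbot
    rw [RingHom.mem_ker]
    exact @Subsingleton.elim Γ(Coh.structureModule Y, ι ⁻¹ᵁ U) _ (ι.app U x) 0

/-- Kernels of epimorphisms from locally free modules onto the ideal are locally free. -/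
theorem isFinLocFree_kernel [IsLocallyNoetherian P]
    (hι : RegImm.IsRegularImmersionOfCodim RegImm.Kind.regular 2 ι) {S : ShortComplex P.Modules}
    (hS : S.ShortExact) (e : S.X₃ ≅ ClSub.idealMod ι.ker) (h₂ : FlatMod.IsFinLocFree S.X₂) :
    FlatMod.IsFinLocFree S.X₁ := by
  haveI := KTheory.LocFree.isQCoh h₂
  haveI : S.X₃.IsQuasicoherent := (Groth.QCohMod.isQCoh_iff_of_iso e).2 inferInstance
  haveI : S.X₁.IsQuasicoherent :=
    (Groth.QCohMod.isQCoh_iff_of_iso (IsLimit.conePointUniqueUpToIso hS.fIsKernel (kernelIsKernel S.g))).2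
      (inferInstanceAs (kernel S.g).IsQuasicoherent)
  refine Groth.LocFree.isFinLocFree_of_affine_cover fun x => ?_
  obtain ⟨U, hG, hx, -⟩ := exists_good ι hι x ⊤ trivial
  refine ⟨U, hG.1, hx, ?_⟩
  obtain ⟨hi, he, hs⟩ := Groth.KTheory.ExtFilt.sections_exact hS hG.1
  haveI := Groth.LocFree.projective_sections h₂ hG.1
  haveI := (Groth.LocFree.finite_projective_sections h₂ hG.1).1
  haveI : IsNoetherianRing Γ(P, U) := IsLocallyNoetherian.component_noetherian ⟨U, hG.1⟩
  let ee : Γ(S.X₃, U) ≃ₗ[Γ(P, U)] ι.ker.ideal ⟨U, hG.1⟩ :=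
    (LinearEquiv.ofBijective (appₗ e.hom U)
      (ConcreteCategory.bijective_of_isIso ((Scheme.Modules.toPresheaf P).map e.hom |>.app (.op U)))).trans
      (OmegaSheaf.idealSecEquiv ι.ker ⟨U, hG.1⟩)
  have hker : LinearMap.ker (ee.toLinearMap ∘ₗ appₗ S.g U) = LinearMap.range (appₗ S.f U) := by
    rw [LinearEquiv.ker_comp, LinearMap.exact_iff.1 he]
  let k := (LinearEquiv.ofInjective (appₗ S.f U) hi).trans (LinearEquiv.ofEq _ _ hker.symm)
  haveI := (idealPair_of_good ι hG).projective_ker (ee.toLinearMap ∘ₗ appₗ S.g U)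
    (ee.surjective.comp hs)
  exact ⟨Module.Finite.equiv k.symm, Module.Projective.of_equiv k.symm⟩

theorem secToLin_pre {E F G : P.Modules} (α : E ⟶ F) {U : P.Opens}
    (g : Γ(RefHull.homSh F G, U)) :
    secToLin ((pre G α).app U g) = secToLin g ∘ₗ appₗ α U :=
  LinearMap.ext fun m => RefRank.mod_section_ext G fun x hx => by
    rw [LinearMap.comp_apply, germ_secToLin, germ_secToLin, pre_val, LinearMap.comp_apply]
    exact congrArg _ (RefHull.stalkMapₗ_germ α x hx m)

/-- Sections of the structure module. -/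
noncomputable def structEquiv (U : P.Opens) : Γ(Coh.structureModule P, U) ≃ₗ[Γ(P, U)] Γ(P, U) where
  toFun := PicAux.toFun
  invFun x := x
  left_inv _ := rfl
  right_inv _ := rfl
  map_add' _ _ := rfl
  map_smul' r x := PicAux.toFun_smul r x

/-- Maps from the ideal to a locally free module extend uniquely to the structure module. -/
theorem isIso_pre_idealModι (hι : RegImm.IsRegularImmersionOfCodim RegImm.Kind.regular 2 ι)
    {G : P.Modules} (hG : FlatMod.IsFinLocFree G) :
    IsIso (pre G (ClSub.idealModι ι.ker)) := by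
  haveI : (Coh.structureModule P).IsQuasicoherent := Groth.QCohMod.isQCoh_unit P
  refine Groth.LocFree.isIso_of_small_affine _ fun x W hx => ?_
  obtain ⟨U, hU, hxU, hUW⟩ := exists_good ι hι x W hx
  refine ⟨U, hU.1, hxU, hUW, ?_⟩
  haveI := Groth.LocFree.projective_sections hG hU.1
  have hb := (idealPair_of_good ι hU).bijective_restrict (M := Γ(G, U))
  let q := OmegaSheaf.idealSecEquiv ι.ker ⟨U, hU.1⟩
  have hq : ∀ m, structEquiv U (appₗ (ClSub.idealModι ι.ker) U m) = (q m : Γ(P, U)) := fun m => rfl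
  have key : ∀ g : Γ(RefHull.homSh (Coh.structureModule P) G, U),
      secToLin ((pre G (ClSub.idealModι ι.ker)).app U g) =
        (((secToLin g) ∘ₗ (structEquiv U).symm.toLinearMap) ∘ₗ
          (ι.ker.ideal ⟨U, hU.1⟩).subtype) ∘ₗ q.toLinearMap := fun g => by
    rw [secToLin_pre]
    refine LinearMap.ext fun m => congrArg (secToLin g) ?_
    exact ((structEquiv U).symm_apply_apply _).symm.trans (congrArg _ (hq m))
  refine ⟨fun g g' hgg => secToLin_injective hU.1 ?_, fun h => ?_⟩
  · have h1 := congrArg secToLin hgg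
    rw [key, key] at h1
    have h2 := hb.1 (a₁ := secToLin g ∘ₗ (structEquiv U).symm.toLinearMap)
      (a₂ := secToLin g' ∘ₗ (structEquiv U).symm.toLinearMap) (LinearMap.ext fun v => by
      obtain ⟨m, rfl⟩ := q.surjective v
      exact LinearMap.congr_fun h1 m)
    refine LinearMap.ext fun v => ?_
    have h3 := LinearMap.congr_fun h2 (structEquiv U v)
    simpa only [LinearMap.comp_apply, LinearEquiv.coe_coe, LinearEquiv.symm_apply_apply] using h3
  · obtain ⟨φ, hφ⟩ := hb.2 (secToLin h ∘ₗ q.symm.toLinearMap)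
    obtain ⟨g, hg⟩ := secToLin_surjective (F := Coh.structureModule P) hU.1
      (φ ∘ₗ (structEquiv U).toLinearMap)
    refine ⟨g, secToLin_injective hU.1 ?_⟩
    rw [key, hg]
    refine LinearMap.ext fun m => ?_
    have h1 := LinearMap.congr_fun hφ (q m)
    simp only [LinearMap.comp_apply, LinearEquiv.coe_coe, LinearEquiv.symm_apply_apply,
      LinearEquiv.apply_symm_apply] at h1 ⊢
    exact h1

end Groth.SerreCorr
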